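import Groth.Agent.Sga3.Translate.GeomFibre

/-!
Maximal points of a geometric fibre of a group go to maximal points under a surjective orbit map.
-/

set_option autoImplicit false
set_option linter.style.haveILetI false

universe u

open CategoryTheory CategoryTheory.Limits MonoidalCategory CartesianMonoidalCategory MonObj GrpObj
  AlgebraicGeometry TopologicalSpace Topology

noncomputable section

namespace Groth.Sga3.Translate

variable {S : Scheme.{u}} {G X T : Over S} [GrpObj G] (a : AlgGrp.Action G X)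

/-- Left translation by a point. -/
def transl (c : T ⟶ G) : G ⊗ T ⟶ G ⊗ T := lift ((snd G T ≫ c) * fst G T) (snd G T)

theorem lift_transl (c b : T ⟶ G) : lift b (𝟙 T) ≫ transl c = lift (c * b) (𝟙 T) := by
  apply CartesianMonoidalCategory.hom_ext
  · simp [transl, MonObj.comp_mul]
  · simp [transl]

theorem transl_transl (c d : T ⟶ G) : transl c ≫ transl d = transl (d * c) := by
  apply CartesianMonoidalCategory.hom_ext
  · simp [transl, MonObj.comp_mul]
    exact (mul_assoc _ _ _).symm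
  · simp [transl]

theorem transl_one : transl (1 : T ⟶ G) = 𝟙 (G ⊗ T) := by
  apply CartesianMonoidalCategory.hom_ext
  · simp [transl, MonObj.comp_one]
  · simp [transl]

theorem isIso_transl (c : T ⟶ G) : IsIso (transl c) :=
  ⟨transl c⁻¹, by rw [transl_transl, inv_mul_cancel, transl_one], by rw [transl_transl, mul_inv_cancel, transl_one]⟩

/-- Action by a point. -/
def actBy (c : T ⟶ G) : X ⊗ T ⟶ X ⊗ T := lift (lift (snd X T ≫ c) (fst X T) ≫ a.act) (snd X T)

theorem actBy_actBy (c d : T ⟶ G) : actBy a c ≫ actBy a d = actBy a (d * c) := by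
  apply CartesianMonoidalCategory.hom_ext
  · simp [actBy, comp_lift_assoc, MonObj.comp_mul, Groth.Agf.lift_mul_act]
  · simp [actBy]

theorem actBy_one : actBy a (1 : T ⟶ G) = 𝟙 (X ⊗ T) := by
  apply CartesianMonoidalCategory.hom_ext
  · simp [actBy, MonObj.comp_one, Groth.Agf.lift_one_act]
  · simp [actBy]

theorem isIso_actBy (c : T ⟶ G) : IsIso (actBy a c) :=
  ⟨actBy a c⁻¹, by rw [actBy_actBy, inv_mul_cancel, actBy_one], by rw [actBy_actBy, mul_inv_cancel, actBy_one]⟩

/-- The orbit map of a point. -/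
def orbit (x : T ⟶ X) : G ⊗ T ⟶ X ⊗ T := lift (lift (fst G T) (snd G T ≫ x) ≫ a.act) (snd G T)

theorem orbit_fst (x : T ⟶ X) : orbit a x ≫ fst X T = (G ◁ x) ≫ a.act := by
  rw [orbit, lift_fst]
  congr 1

theorem transl_orbit (c : T ⟶ G) (x : T ⟶ X) : transl c ≫ orbit a x = orbit a x ≫ actBy a c := by
  apply CartesianMonoidalCategory.hom_ext
  · simp [transl, orbit, actBy, comp_lift_assoc, Groth.Agf.lift_mul_act]
  · simp [transl, orbit, actBy]

theorem surjective_orbit (hΦ : Surjective (lift a.act (snd G X)).left) (x : T ⟶ X) :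
    Surjective (orbit a x).left := by
  have h : IsPullback (G ◁ x) (orbit a x) (lift a.act (snd G X)) (X ◁ x) := by
    refine IsPullback.of_bot ?_ ?_ (Groth.Agf.isPullback_whiskerLeft_snd X x)
    · rw [lift_snd, show orbit a x ≫ snd X T = snd G T from lift_snd _ _]
      exact Groth.Agf.isPullback_whiskerLeft_snd G x
    · apply CartesianMonoidalCategory.hom_ext
      · simp [← orbit_fst a x]
      · simp [orbit]
  exact MorphismProperty.of_isPullback (h.map (Over.forget _)) hΦ

variable (s : S) [LocallyOfFiniteType (G.hom.fiberToSpecResidueField s)]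
  [LocallyOfFiniteType (X.hom.fiberToSpecResidueField s)]

theorem isMaxPt_orbit (hΦ : Surjective (lift a.act (snd G X)).left) (x : gT s ⟶ X)
    {y : ↥(G ⊗ gT s).left} (hy : IsMaxPt y) : IsMaxPt ((orbit a x).left.base y) := by
  haveI := isLocallyNoetherian_geom s G
  haveI := jacobsonSpace_geom s G
  haveI := surjective_orbit a hΦ x
  obtain ⟨ξ, hξ, -⟩ := exists_isMaxPt_specializes ((orbit a x).left.base y)
  obtain ⟨w, hw⟩ := (orbit a x).left.surjective ξ
  obtain ⟨y₀, hy₀, hy₀w⟩ := exists_isMaxPt_specializes w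
  have hξ₀ : (orbit a x).left.base y₀ = ξ := hξ _ (hw ▸ hy₀w.map (orbit a x).left.continuous)
  obtain ⟨V, hyV, hV⟩ := hy.exists_open
  obtain ⟨V₀, hy₀V, hV₀⟩ := hy₀.exists_open
  obtain ⟨g₁, hg₁, hg₁c⟩ := nonempty_inter_closedPoints ⟨y, hyV⟩ V.2.isLocallyClosed
  obtain ⟨g₀, hg₀, hg₀c⟩ := nonempty_inter_closedPoints ⟨y₀, hy₀V⟩ V₀.2.isLocallyClosed
  obtain ⟨e₁, he₁⟩ := exists_section s G hg₁c
  obtain ⟨e₀, he₀⟩ := exists_section s G hg₀c
  let L := transl (e₁ * e₀⁻¹)
  haveI := isIso_transl (e₁ * e₀⁻¹)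
  haveI : IsIso L.left := inferInstanceAs (IsIso ((Over.forget _).map (transl (e₁ * e₀⁻¹))))
  have hLg : L.left.base g₀ = g₁ := by
    rw [← he₀, ← he₁, ← Scheme.Hom.comp_apply, ← Over.comp_left, lift_transl, inv_mul_cancel_right]
  obtain ⟨m, hm, hmg⟩ := exists_isMaxPt_specializes g₀
  rw [hV₀ g₀ hg₀ m hm hmg] at hmg
  have hLy : L.left.base y₀ = y :=
    hV g₁ hg₁ _ ((isMaxPt_iff_of_isIso L.left y₀).2 hy₀) (hLg ▸ hmg.map L.left.continuous)
  rw [← hLy, ← Scheme.Hom.comp_apply, ← Over.comp_left, transl_orbit, Over.comp_left,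
    Scheme.Hom.comp_apply, hξ₀]
  haveI := isIso_actBy a (e₁ * e₀⁻¹)
  haveI : IsIso (actBy a (e₁ * e₀⁻¹)).left :=
    inferInstanceAs (IsIso ((Over.forget _).map (actBy a (e₁ * e₀⁻¹))))
  exact (isMaxPt_iff_of_isIso _ ξ).2 hξ

end Groth.Sga3.Translate
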