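import Groth.Agent.S9683
import Groth.Agent.Agf.Quot
import Groth.Agent.Curves1.CurveMor.Basic
import Mathlib.AlgebraicGeometry.AlgClosed.Basic
import Mathlib.FieldTheory.IsAlgClosed.AlgebraicClosure

/-!
Geometric fibres of objects over a base: maximal points, closed points and translations.
-/

set_option autoImplicit false
set_option linter.style.haveILetI false

universe u

open CategoryTheory CategoryTheory.Limits MonoidalCategory CartesianMonoidalCategory MonObj GrpObj
  AlgebraicGeometry TopologicalSpace Topology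

noncomputable section

namespace Groth.Sga3.Translate

section Top

variable {Z : Scheme.{u}}

/-- A point without proper generizations. -/
def IsMaxPt (y : Z) : Prop := ∀ y' : Z, y' ⤳ y → y' = y

theorem exists_isMaxPt_specializes (p : Z) : ∃ y : Z, IsMaxPt y ∧ y ⤳ p := by
  obtain ⟨g, hg⟩ := QuasiSober.sober (isIrreducible_irreducibleComponent (x := p))
    isClosed_irreducibleComponent
  refine ⟨g, fun y' hy' => ?_, hg.specializes mem_irreducibleComponent⟩
  have h1 : irreducibleComponent p ⊆ closure {y'} := by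
    rw [← hg.def]
    exact closure_minimal (Set.singleton_subset_iff.2 hy'.mem_closure) isClosed_closure
  have h2 : y' ∈ irreducibleComponent p := by
    rw [← eq_irreducibleComponent (isIrreducible_singleton.closure.isPreirreducible) h1]
    exact subset_closure rfl
  exact (hy'.antisymm (hg.specializes h2)).eq

/-- A maximal point has a neighbourhood in which it is the only maximal point. -/
theorem IsMaxPt.exists_open [IsLocallyNoetherian Z] {y : Z} (hy : IsMaxPt y) :
    ∃ V : Z.Opens, y ∈ V ∧ ∀ p ∈ V, ∀ y', IsMaxPt y' → y' ⤳ p → y' = y := by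
  classical
  obtain ⟨V₀, hV₀, hyV, -⟩ := exists_isAffineOpen_mem_and_subset (U := ⊤) (Set.mem_univ y)
  haveI : IsAffine V₀.toScheme := hV₀
  haveI : IsLocallyNoetherian V₀.toScheme := isLocallyNoetherian_of_isOpenImmersion V₀.ι
  haveI : IsNoetherian V₀.toScheme := {}
  let F : Set V₀.toScheme := genericPoints ↥V₀.toScheme \ {⟨y, hyV⟩}
  have hF : F.Finite := (Groth.Curves1.CurveMor.finite_genericPoints (X := V₀.toScheme)).subset Set.diff_subset
  let C : Set Z := ⋃ a ∈ F, closure {(a.1 : Z)}
  have hC : IsClosed C := hF.isClosed_biUnion fun _ _ => isClosed_closure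
  refine ⟨⟨(V₀ : Set Z) ∩ Cᶜ, V₀.2.inter hC.isOpen_compl⟩, ⟨hyV, fun h => ?_⟩, ?_⟩
  · obtain ⟨a, ha, hya⟩ := Set.mem_iUnion₂.1 h
    exact ha.2 (Subtype.ext (hy _ (specializes_iff_mem_closure.2 hya)))
  · rintro p ⟨hpV, hpC⟩ y' hy' hsp
    have hy'V : y' ∈ V₀ := hsp.mem_open V₀.2 hpV
    by_contra hne
    refine hpC (Set.mem_iUnion₂.2 ⟨⟨y', hy'V⟩, ⟨?_, fun h => hne (congrArg Subtype.val h)⟩,
      specializes_iff_mem_closure.1 hsp⟩)
    refine ⟨isIrreducible_singleton.closure, fun T hT hle => ?_⟩
    obtain ⟨g, hg⟩ := QuasiSober.sober hT.closure isClosed_closure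
    have h1 : g ⤳ (⟨y', hy'V⟩ : V₀.toScheme) :=
      hg.specializes (subset_closure (hle (subset_closure rfl)))
    have h2 : g = (⟨y', hy'V⟩ : V₀.toScheme) := Subtype.ext (hy' g.1 (h1.map continuous_subtype_val))
    rw [← h2, hg.def]
    exact subset_closure

theorem IsMaxPt.mem_of_mem_closure [IsLocallyNoetherian Z] {y : Z} (hy : IsMaxPt y) {O : Set Z}
    (hO : IsOpen O) (h : y ∈ closure O) : y ∈ O := by
  obtain ⟨V, hyV, hV⟩ := hy.exists_open
  obtain ⟨p, hpV, hpO⟩ := mem_closure_iff.1 h V V.2 hyV
  obtain ⟨g, hg, hgp⟩ := exists_isMaxPt_specializes p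
  exact hV p hpV g hg hgp ▸ hgp.mem_open hO hpO

theorem isMaxPt_iff_of_isIso {Z' : Scheme.{u}} (e : Z ⟶ Z') [IsIso e] (y : Z) :
    IsMaxPt (e.base y) ↔ IsMaxPt y := by
  have hind := e.isOpenEmbedding.toIsInducing
  constructor
  · exact fun h y' hy' => e.isOpenEmbedding.injective (h _ (hind.specializes_iff.2 hy'))
  · intro h y' hy'
    obtain ⟨w, rfl⟩ := (show Function.Surjective e.base from e.surjective) y'
    rw [h w (hind.specializes_iff.1 hy')]

end Top

variable {S : Scheme.{u}} (s : S)

abbrev Kbar : Type u := AlgebraicClosure (S.residueField s)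

/-- The geometric point over the residue field. -/
def geomPt : Spec (CommRingCat.of (Kbar s)) ⟶ Spec (S.residueField s) :=
  Spec.map (CommRingCat.ofHom (algebraMap (S.residueField s) (Kbar s)))

instance : IsIntegralHom (geomPt s) :=
  (IsIntegralHom.SpecMap_iff).2 (fun x => Algebra.IsIntegral.isIntegral x)

instance : Surjective (geomPt s) :=
  ⟨fun p => ⟨IsLocalRing.closedPoint (Kbar s), Subsingleton.elim (α := PrimeSpectrum (S.residueField s)) _ _⟩⟩

instance : Flat (geomPt s) :=
  Flat.SpecMap_iff.2 (RingHom.flat_algebraMap_iff.2 Module.Flat.of_free)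

/-- The geometric point, as an object over the base. -/
abbrev gT : Over S := Over.mk (geomPt s ≫ S.fromSpecResidueField s)

/-- Its point. -/
abbrev gpt : ↥(gT s).left := IsLocalRing.closedPoint (Kbar s)

variable (X : Over S)

theorem toFibre_aux : (fst X (gT s)).left ≫ X.hom =
    ((snd X (gT s)).left ≫ geomPt s) ≫ S.fromSpecResidueField s := by
  rw [Category.assoc, Over.w (fst X (gT s))]
  exact (Over.w (snd X (gT s))).symm

/-- The projection of the geometric fibre to the fibre. -/
def toFibre : (X ⊗ gT s).left ⟶ X.hom.fiber s :=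
  pullback.lift (fst X (gT s)).left ((snd X (gT s)).left ≫ geomPt s) (toFibre_aux s X)

theorem toFibre_ι : toFibre s X ≫ X.hom.fiberι s = (fst X (gT s)).left := pullback.lift_fst ..

theorem fiberι_toFibre (p : ↥(X ⊗ gT s).left) :
    (X.hom.fiberι s).base ((toFibre s X).base p) = (fst X (gT s)).left.base p := by
  rw [← Scheme.Hom.comp_apply, toFibre_ι]

theorem isPullback_toFibre : IsPullback (toFibre s X) (snd X (gT s)).left
    (X.hom.fiberToSpecResidueField s) (geomPt s) := by
  refine IsPullback.of_right ?_ (pullback.lift_snd ..) (IsPullback.of_hasPullback X.hom (S.fromSpecResidueField s))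
  show IsPullback (toFibre s X ≫ X.hom.fiberι s) _ _ _
  rw [toFibre_ι]
  exact IsPullback.of_hasPullback X.hom (gT s).hom

instance : IsIntegralHom (toFibre s X) :=
  MorphismProperty.of_isPullback (isPullback_toFibre s X).flip inferInstance

instance : Surjective (toFibre s X) :=
  MorphismProperty.of_isPullback (isPullback_toFibre s X).flip inferInstance

instance : Flat (toFibre s X) :=
  MorphismProperty.of_isPullback (isPullback_toFibre s X).flip inferInstance

theorem isMaxPt_toFibre {p : ↥(X ⊗ gT s).left} (hp : IsMaxPt p) : IsMaxPt ((toFibre s X).base p) := by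
  intro c hc
  obtain ⟨p', hp', rfl⟩ := Flat.generalizingMap (toFibre s X) hc
  rw [hp p' hp']

theorem isMaxPt_of_toFibre {p : ↥(X ⊗ gT s).left} (hp : IsMaxPt ((toFibre s X).base p)) : IsMaxPt p :=
  fun _ h => Groth.Agent.S9683.eq_of_specializes (toFibre s X) h (hp _ (h.map (toFibre s X).continuous))

variable [hX : LocallyOfFiniteType (X.hom.fiberToSpecResidueField s)]

theorem lft_snd : LocallyOfFiniteType (snd X (gT s)).left :=
  MorphismProperty.of_isPullback (isPullback_toFibre s X) hX

theorem isLocallyNoetherian_geom : IsLocallyNoetherian (X ⊗ gT s).left :=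
  haveI := lft_snd s X
  haveI : IsLocallyNoetherian (gT s).left := inferInstanceAs (IsLocallyNoetherian (Spec (CommRingCat.of (Kbar s))))
  LocallyOfFiniteType.isLocallyNoetherian (snd X (gT s)).left

theorem jacobsonSpace_geom : JacobsonSpace ↥(X ⊗ gT s).left :=
  haveI := lft_snd s X
  haveI : JacobsonSpace ↥(gT s).left := inferInstanceAs (JacobsonSpace (PrimeSpectrum (Kbar s)))
  LocallyOfFiniteType.jacobsonSpace (snd X (gT s)).left

/-- Closed points of the geometric fibre are sections. -/
theorem exists_section {p : ↥(X ⊗ gT s).left} (hp : IsClosed ({p} : Set ↥(X ⊗ gT s).left)) :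
    ∃ g : gT s ⟶ X, (lift g (𝟙 (gT s))).left.base (gpt s) = p := by
  haveI := lft_snd s X
  let q : (X ⊗ gT s).left ⟶ Spec (CommRingCat.of (Kbar s)) := (snd X (gT s)).left
  have hq : pointOfClosedPoint q p hp ≫ q = 𝟙 _ := pointOfClosedPoint_comp q p hp
  let σ : gT s ⟶ X ⊗ gT s := Over.homMk (pointOfClosedPoint q p hp) (by
    rw [← Over.w (snd X (gT s))]
    exact (Category.assoc _ _ _).symm.trans
      ((congrArg (· ≫ (gT s).hom) hq).trans (Category.id_comp _)))
  have hσ : σ ≫ snd X (gT s) = 𝟙 _ := Over.OverMorphism.ext hq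
  refine ⟨σ ≫ fst X (gT s), ?_⟩
  rw [show lift (σ ≫ fst X (gT s)) (𝟙 (gT s)) = σ from
    CartesianMonoidalCategory.hom_ext _ _ (lift_fst _ _) ((lift_snd _ _).trans hσ.symm)]
  exact pointOfClosedPoint_apply q p hp _

/-- Closed points of the fibre lift to geometric points. -/
theorem exists_geomPoint {c : ↥(X.hom.fiber s)} (hc : IsClosed ({c} : Set ↥(X.hom.fiber s))) :
    ∃ g : gT s ⟶ X, g.left.base (gpt s) = (X.hom.fiberι s).base c := by
  haveI := jacobsonSpace_geom s X
  obtain ⟨p₀, hp₀⟩ := (toFibre s X).surjective c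
  obtain ⟨p, hp, hpc⟩ := nonempty_inter_closedPoints
    (Z := (toFibre s X).base ⁻¹' {c}) ⟨p₀, hp₀⟩ (hc.preimage (toFibre s X).continuous).isLocallyClosed
  obtain ⟨g, hg⟩ := exists_section s X hpc
  refine ⟨g, ?_⟩
  rw [← (show (toFibre s X).base p = c from hp), fiberι_toFibre, ← hg, ← Scheme.Hom.comp_apply,
    ← Over.comp_left, lift_fst]

end Groth.Sga3.Translate
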